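import Cfsg.Agent.H15.UB.He.D0

/-! Generated by tools/h15/ub/gk.py (kit tools/h0/tr). -/

set_option maxRecDepth 100000
set_option maxHeartbeats 0

namespace H15.UB.He
open H16 H0.TR
open H15.QS H15.UB
open scoped commutatorElement Pointwise

theorem cdth_m_0_0 : allZ (matEnt (wdsP H16.PHe.P cdth_W) cdth_P (nat_lit 0)) (nat_lit 0) (nat_lit 2058) = true := by decide +kernel
theorem cdth_m_1_0 : allZ (matEnt (wdsP H16.PHe.P cdth_W) cdth_P (nat_lit 1)) (nat_lit 0) (nat_lit 2058) = true := by decide +kernel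
theorem cdth_m_2_0 : allZ (matEnt (wdsP H16.PHe.P cdth_W) cdth_P (nat_lit 2)) (nat_lit 0) (nat_lit 2058) = true := by decide +kernel
theorem cdth_m_3_0 : allZ (matEnt (wdsP H16.PHe.P cdth_W) cdth_P (nat_lit 3)) (nat_lit 0) (nat_lit 2058) = true := by decide +kernel
theorem cdth_m_4_0 : allZ (matEnt (wdsP H16.PHe.P cdth_W) cdth_P (nat_lit 4)) (nat_lit 0) (nat_lit 2058) = true := by decide +kernel
theorem cdth_m_5_0 : allZ (matEnt (wdsP H16.PHe.P cdth_W) cdth_P (nat_lit 5)) (nat_lit 0) (nat_lit 2058) = true := by decide +kernel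
theorem cdth_m_6_0 : allZ (matEnt (wdsP H16.PHe.P cdth_W) cdth_P (nat_lit 6)) (nat_lit 0) (nat_lit 2058) = true := by decide +kernel
theorem cdth_m_7_0 : allZ (matEnt (wdsP H16.PHe.P cdth_W) cdth_P (nat_lit 7)) (nat_lit 0) (nat_lit 2058) = true := by decide +kernel
theorem cdth_m_8_0 : allZ (matEnt (wdsP H16.PHe.P cdth_W) cdth_P (nat_lit 8)) (nat_lit 0) (nat_lit 2058) = true := by decide +kernel
theorem cdth_m_9_0 : allZ (matEnt (wdsP H16.PHe.P cdth_W) cdth_P (nat_lit 9)) (nat_lit 0) (nat_lit 2058) = true := by decide +kernel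
theorem cdth_m_10_0 : allZ (matEnt (wdsP H16.PHe.P cdth_W) cdth_P (nat_lit 10)) (nat_lit 0) (nat_lit 2058) = true := by decide +kernel
theorem cdth_m_11_0 : allZ (matEnt (wdsP H16.PHe.P cdth_W) cdth_P (nat_lit 11)) (nat_lit 0) (nat_lit 2058) = true := by decide +kernel
theorem cdth_m_12_0 : allZ (matEnt (wdsP H16.PHe.P cdth_W) cdth_P (nat_lit 12)) (nat_lit 0) (nat_lit 2058) = true := by decide +kernel
theorem cdth_m_13_0 : allZ (matEnt (wdsP H16.PHe.P cdth_W) cdth_P (nat_lit 13)) (nat_lit 0) (nat_lit 2058) = true := by decide +kernel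
theorem cdth_m_14_0 : allZ (matEnt (wdsP H16.PHe.P cdth_W) cdth_P (nat_lit 14)) (nat_lit 0) (nat_lit 2058) = true := by decide +kernel
theorem cdth_m_15_0 : allZ (matEnt (wdsP H16.PHe.P cdth_W) cdth_P (nat_lit 15)) (nat_lit 0) (nat_lit 2058) = true := by decide +kernel
theorem cdtl0_e_0 : allZ (dent cdtl0 cdth_P (nat_lit 2058)) (nat_lit 0) (nat_lit 2057) = true := by decide +kernel
theorem cdtl0_h : 0 < cdtl0.n ∧ 0 < cdtl0.K ∧ cdtl0.Pt 0 < 2058 ∧ cdtl0.Q (cdtl0.Pt 0) = 0 := by decide +kernel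
theorem cdtl1_e_0 : allZ (dent cdtl1 cdth_P (nat_lit 2058)) (nat_lit 0) (nat_lit 424) = true := by decide +kernel
theorem cdtl1_h : 0 < cdtl1.n ∧ 0 < cdtl1.K ∧ cdtl1.Pt 0 < 2058 ∧ cdtl1.Q (cdtl1.Pt 0) = 0 := by decide +kernel
theorem cdtl2_e_0 : allZ (dent cdtl2 cdth_P (nat_lit 2058)) (nat_lit 0) (nat_lit 63) = true := by decide +kernel
theorem cdtl2_h : 0 < cdtl2.n ∧ 0 < cdtl2.K ∧ cdtl2.Pt 0 < 2058 ∧ cdtl2.Q (cdtl2.Pt 0) = 0 := by decide +kernel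
theorem cdtl3_e_0 : allZ (dent cdtl3 cdth_P (nat_lit 2058)) (nat_lit 0) (nat_lit 8) = true := by decide +kernel
theorem cdtl3_h : 0 < cdtl3.n ∧ 0 < cdtl3.K ∧ cdtl3.Pt 0 < 2058 ∧ cdtl3.Q (cdtl3.Pt 0) = 0 := by decide +kernel
theorem cdtl4_e_0 : allZ (dent cdtl4 cdth_P (nat_lit 2058)) (nat_lit 0) (nat_lit 3) = true := by decide +kernel
theorem cdtl4_h : 0 < cdtl4.n ∧ 0 < cdtl4.K ∧ cdtl4.Pt 0 < 2058 ∧ cdtl4.Q (cdtl4.Pt 0) = 0 := by decide +kernel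
theorem cdtl5_e_0 : allZ (dent cdtl5 cdth_P (nat_lit 2058)) (nat_lit 0) (nat_lit 1) = true := by decide +kernel
theorem cdtl5_h : 0 < cdtl5.n ∧ 0 < cdtl5.K ∧ cdtl5.Pt 0 < 2058 ∧ cdtl5.Q (cdtl5.Pt 0) = 0 := by decide +kernel
theorem cdt_f5 : (Nat.ble cdtl5.K 16 && Nat.ble (topK []) cdtl5.K && fixLetters cdth_P (topK []) (cdtl5.Pt 0)) = true := by decide +kernel
theorem cdt_f4 : (Nat.ble cdtl4.K 16 && Nat.ble (topK [cdtl5]) cdtl4.K && fixLetters cdth_P (topK [cdtl5]) (cdtl4.Pt 0)) = true := by decide +kernel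
theorem cdt_f3 : (Nat.ble cdtl3.K 16 && Nat.ble (topK [cdtl4, cdtl5]) cdtl3.K && fixLetters cdth_P (topK [cdtl4, cdtl5]) (cdtl3.Pt 0)) = true := by decide +kernel
theorem cdt_f2 : (Nat.ble cdtl2.K 16 && Nat.ble (topK [cdtl3, cdtl4, cdtl5]) cdtl2.K && fixLetters cdth_P (topK [cdtl3, cdtl4, cdtl5]) (cdtl2.Pt 0)) = true := by decide +kernel
theorem cdt_f1 : (Nat.ble cdtl1.K 16 && Nat.ble (topK [cdtl2, cdtl3, cdtl4, cdtl5]) cdtl1.K && fixLetters cdth_P (topK [cdtl2, cdtl3, cdtl4, cdtl5]) (cdtl1.Pt 0)) = true := by decide +kernel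
theorem cdt_f0 : (Nat.ble cdtl0.K 16 && Nat.ble (topK [cdtl1, cdtl2, cdtl3, cdtl4, cdtl5]) cdtl0.K && fixLetters cdth_P (topK [cdtl1, cdtl2, cdtl3, cdtl4, cdtl5]) (cdtl0.Pt 0)) = true := by decide +kernel
theorem cdt_c : chainCard [cdtl0, cdtl1, cdtl2, cdtl3, cdtl4, cdtl5] = 4030387200 := by decide +kernel
theorem cde_lt : H16.allL (ltAll 7) cde_W = true := by decide +kernel
theorem cde_m_0_0 : allZ (matEnt (wdsP H16.PHe.P cde_W) cde_P (nat_lit 0)) (nat_lit 0) (nat_lit 2058) = true := by decide +kernel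
theorem cde_m_1_0 : allZ (matEnt (wdsP H16.PHe.P cde_W) cde_P (nat_lit 1)) (nat_lit 0) (nat_lit 2058) = true := by decide +kernel
theorem cde_m_2_0 : allZ (matEnt (wdsP H16.PHe.P cde_W) cde_P (nat_lit 2)) (nat_lit 0) (nat_lit 2058) = true := by decide +kernel
theorem cde_m_3_0 : allZ (matEnt (wdsP H16.PHe.P cde_W) cde_P (nat_lit 3)) (nat_lit 0) (nat_lit 1984) = true := by decide +kernel
theorem cde_m_3_1 : allZ (matEnt (wdsP H16.PHe.P cde_W) cde_P (nat_lit 3)) (nat_lit 1984) (nat_lit 74) = true := by decide +kernel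
theorem cdc5_e_0 : allZ (dent cdc5 cde_P (nat_lit 2058)) (nat_lit 0) (nat_lit 1) = true := by decide +kernel
theorem cdc5_h : 0 < cdc5.n ∧ 0 < cdc5.K ∧ cdc5.Pt 0 < 2058 ∧ cdc5.Q (cdc5.Pt 0) = 0 := by decide +kernel
theorem cdtn0_0 : (Nat.ble cdtl5.K 16 && Nat.beq (ltAll 2058 [cdtl4.Pt 0, cdtl3.Pt 0, cdtl2.Pt 0, cdtl1.Pt 0, cdtl0.Pt 0]) 0 && kChk cde_P d_P cdtn0.Kn 3 H16.PHe.B [cdtl4.Pt 0, cdtl3.Pt 0, cdtl2.Pt 0, cdtl1.Pt 0, cdtl0.Pt 0] && H16.allL (ltAll 3) cdtn0.pre && planOK cdth_P d_P 3 (cdtl5.Pt 0) cdtn0.plan [cdtl5]) = true := by decide +kernel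
theorem cdtn0_1_0 : allZ (cdtn0.ent H16.PHe.P cdth_P d_P d_P cde_P (nat_lit 7) (nat_lit 3) H16.PHe.B cdtl5 [] (memO cdc5)) (nat_lit 0) (nat_lit 2) = true := by decide +kernel
theorem cd_f5 : (Nat.ble cdc5.K 4 && Nat.ble (topK []) cdc5.K && Nat.beq (cdc5.Pt 0) (cdtl5.Pt 0) && Nat.beq (ltAll 2058 [cdtl4.Pt 0, cdtl3.Pt 0, cdtl2.Pt 0, cdtl1.Pt 0, cdtl0.Pt 0]) 0 && kChk cde_P d_P cdc5.K 3 H16.PHe.B [cdtl4.Pt 0, cdtl3.Pt 0, cdtl2.Pt 0, cdtl1.Pt 0, cdtl0.Pt 0]) = true := by decide +kernel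
theorem cdc4_e_0 : allZ (dent cdc4 cde_P (nat_lit 2058)) (nat_lit 0) (nat_lit 1) = true := by decide +kernel
theorem cdc4_h : 0 < cdc4.n ∧ 0 < cdc4.K ∧ cdc4.Pt 0 < 2058 ∧ cdc4.Q (cdc4.Pt 0) = 0 := by decide +kernel
theorem cdtn1_0 : (Nat.ble cdtl4.K 16 && Nat.beq (ltAll 2058 [cdtl3.Pt 0, cdtl2.Pt 0, cdtl1.Pt 0, cdtl0.Pt 0]) 0 && kChk cde_P d_P cdtn1.Kn 3 H16.PHe.B [cdtl3.Pt 0, cdtl2.Pt 0, cdtl1.Pt 0, cdtl0.Pt 0] && H16.allL (ltAll 3) cdtn1.pre && planOK cdth_P d_P 3 (cdtl4.Pt 0) cdtn1.plan [cdtl4, cdtl5]) = true := by decide +kernel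
theorem cdtn1_1_0 : allZ (cdtn1.ent H16.PHe.P cdth_P d_P d_P cde_P (nat_lit 7) (nat_lit 3) H16.PHe.B cdtl4 [cdtl5] (memO cdc4)) (nat_lit 0) (nat_lit 4) = true := by decide +kernel
theorem cd_f4 : (Nat.ble cdc4.K 4 && Nat.ble (topK [cdc5]) cdc4.K && Nat.beq (cdc4.Pt 0) (cdtl4.Pt 0) && Nat.beq (ltAll 2058 [cdtl3.Pt 0, cdtl2.Pt 0, cdtl1.Pt 0, cdtl0.Pt 0]) 0 && kChk cde_P d_P cdc4.K 3 H16.PHe.B [cdtl3.Pt 0, cdtl2.Pt 0, cdtl1.Pt 0, cdtl0.Pt 0]) = true := by decide +kernel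
theorem cd_f3 : (Nat.ble cdtl3.K 16 && Nat.blt (nat_lit 186) 2058 && fixLetters cdth_P cdtl3.K (nat_lit 186) && Nat.beq (ltAll 3 [nat_lit 2, nat_lit 2]) 0 && Nat.beq (apW d_P [nat_lit 2, nat_lit 2] (nat_lit 186)) (cdtl3.Pt 0)) = true := by decide +kernel
theorem cd_f2 : (Nat.ble cdtl2.K 16 && Nat.blt (nat_lit 186) 2058 && fixLetters cdth_P cdtl2.K (nat_lit 186) && Nat.beq (ltAll 3 [nat_lit 2, nat_lit 0]) 0 && Nat.beq (apW d_P [nat_lit 2, nat_lit 0] (nat_lit 186)) (cdtl2.Pt 0)) = true := by decide +kernel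
theorem cd_f1 : (Nat.ble cdtl1.K 16 && Nat.blt (nat_lit 186) 2058 && fixLetters cdth_P cdtl1.K (nat_lit 186) && Nat.beq (ltAll 3 [nat_lit 2]) 0 && Nat.beq (apW d_P [nat_lit 2] (nat_lit 186)) (cdtl1.Pt 0)) = true := by decide +kernel
theorem cdc0_e_0 : allZ (dent cdc0 cde_P (nat_lit 2058)) (nat_lit 0) (nat_lit 3) = true := by decide +kernel
theorem cdc0_h : 0 < cdc0.n ∧ 0 < cdc0.K ∧ cdc0.Pt 0 < 2058 ∧ cdc0.Q (cdc0.Pt 0) = 0 := by decide +kernel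
theorem cdtn2_0 : (Nat.ble cdtl0.K 16 && Nat.beq (ltAll 2058 []) 0 && kChk cde_P d_P cdtn2.Kn 3 H16.PHe.B [] && H16.allL (ltAll 3) cdtn2.pre && planOK cdth_P d_P 3 (cdtl0.Pt 0) cdtn2.plan [cdtl0, cdtl1, cdtl2, cdtl3, cdtl4, cdtl5]) = true := by decide +kernel
theorem cdtn2_1_0 : allZ (cdtn2.ent H16.PHe.P cdth_P d_P d_P cde_P (nat_lit 7) (nat_lit 3) H16.PHe.B cdtl0 [cdtl1, cdtl2, cdtl3, cdtl4, cdtl5] (memO cdc0)) (nat_lit 0) (nat_lit 2058) = true := by decide +kernel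
theorem cd_f0 : (Nat.ble cdc0.K 4 && Nat.ble (topK [cdc4, cdc5]) cdc0.K && Nat.beq (cdc0.Pt 0) (cdtl0.Pt 0) && Nat.beq (ltAll 2058 []) 0 && kChk cde_P d_P cdc0.K 3 H16.PHe.B []) = true := by decide +kernel
theorem cd_c : chainCard [cdc0, cdc4, cdc5] = 16 ∧ topK [cdc0, cdc4, cdc5] = 4 := by decide +kernel
theorem wd0_k_0 : allZ (cmEnt H15.IC.He.p2t_P cde_P (nat_lit 6) H16.PHe.B (nat_lit 0)) (nat_lit 0) (nat_lit 6) = true := by decide +kernel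
theorem wd1_k_0 : allZ (cmEnt H15.IC.He.p2t_P cde_P (nat_lit 6) H16.PHe.B (nat_lit 1)) (nat_lit 0) (nat_lit 6) = true := by decide +kernel
theorem wd2_k_0 : allZ (cmEnt H15.IC.He.p2t_P cde_P (nat_lit 6) H16.PHe.B (nat_lit 2)) (nat_lit 0) (nat_lit 6) = true := by decide +kernel
theorem wd3_k_0 : allZ (cmEnt H15.IC.He.p2t_P cde_P (nat_lit 6) H16.PHe.B (nat_lit 3)) (nat_lit 0) (nat_lit 6) = true := by decide +kernel
theorem wU_k : allZ (fun a => Nat.add (ltAll 10 (nth [] [[nat_lit 0, nat_lit 1, nat_lit 3, nat_lit 4],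
  [nat_lit 2],
  [nat_lit 0, nat_lit 2],
  [nat_lit 1, nat_lit 2]] a)) (sumL (fun β => Nat.xor (cde_P a β) (apW H15.IC.He.p2t_P (nth [] [[nat_lit 0, nat_lit 1, nat_lit 3, nat_lit 4],
  [nat_lit 2],
  [nat_lit 0, nat_lit 2],
  [nat_lit 1, nat_lit 2]] a) β)) H16.PHe.B)) 0 4 = true := by decide +kernel
theorem zW_k : Nat.add (ltAll 4 [nat_lit 1, nat_lit 2]) (sumL (fun β => Nat.xor (H15.IC.He.c0ax_P 0 β) (apW cde_P [nat_lit 1, nat_lit 2] β)) H16.PHe.B) = 0 := by decide +kernel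
theorem f_lt : H16.allL (ltAll 7) f_W = true := by decide +kernel
theorem f1_k : allZ (fun j => cjL cde_P f_P 4 H16.PHe.B 1 [j] (nth [] [[nat_lit 0],
  [nat_lit 1],
  [nat_lit 0, nat_lit 1, nat_lit 2, nat_lit 3],
  [nat_lit 0, nat_lit 1, nat_lit 2]] j)) 0 4 = true := by decide +kernel
theorem f2_k : eqL f_P 4 H16.PHe.B [nat_lit 0, nat_lit 2] [nat_lit 2, nat_lit 0] = 0 := by decide +kernel
theorem f3_k : eqL f_P 4 H16.PHe.B [nat_lit 0, nat_lit 1, nat_lit 2, nat_lit 1] [nat_lit 1, nat_lit 2, nat_lit 1, nat_lit 3] = 0 := by decide +kernel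
theorem f4_k : 0 < 2058 ∧ ltAll 4 [nat_lit 3, nat_lit 0] = 0 ∧ ltAll 4 [nat_lit 0, nat_lit 3] = 0 ∧ apW f_P [nat_lit 3, nat_lit 0] 0 ≠ apW f_P [nat_lit 0, nat_lit 3] 0 := by decide +kernel

end H15.UB.He
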