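import Cfsg.Agent.H15.UB.He.D0

/-! Generated by tools/h15/ub/gk.py (kit tools/h0/tr). -/

set_option maxRecDepth 100000
set_option maxHeartbeats 0

namespace H15.UB.He
open H16 H0.TR
open H15.QS H15.UB
open scoped commutatorElement Pointwise

theorem zU_k : Nat.add (ltAll 10 [nat_lit 0]) (sumL (fun β => Nat.xor (H15.IC.He.c0ax_P 0 β) (apW H15.IC.He.p2t_P [nat_lit 0] β)) H16.PHe.B) = 0 := by decide +kernel
theorem Uz_k_0 : allZ (cmEnt H15.IC.He.p2t_P H15.IC.He.c0ax_P (nat_lit 10) H16.PHe.B (nat_lit 0)) (nat_lit 0) (nat_lit 10) = true := by decide +kernel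
theorem z1_k : 0 < 2058 ∧ ltAll 1 (List.replicate 1 0) = 0 ∧ ltAll 1 [] = 0 ∧ apW H15.IC.He.c0ax_P (List.replicate 1 0) 0 ≠ apW H15.IC.He.c0ax_P [] 0 := by decide +kernel
theorem cuth_lt : H16.allL (ltAll 7) cuth_W = true := by decide +kernel
theorem cuth_m_0_0 : allZ (matEnt (wdsP H16.PHe.P cuth_W) cuth_P (nat_lit 0)) (nat_lit 0) (nat_lit 2058) = true := by decide +kernel
theorem cuth_m_1_0 : allZ (matEnt (wdsP H16.PHe.P cuth_W) cuth_P (nat_lit 1)) (nat_lit 0) (nat_lit 2058) = true := by decide +kernel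
theorem cuth_m_2_0 : allZ (matEnt (wdsP H16.PHe.P cuth_W) cuth_P (nat_lit 2)) (nat_lit 0) (nat_lit 2058) = true := by decide +kernel
theorem cuth_m_3_0 : allZ (matEnt (wdsP H16.PHe.P cuth_W) cuth_P (nat_lit 3)) (nat_lit 0) (nat_lit 2058) = true := by decide +kernel
theorem cuth_m_4_0 : allZ (matEnt (wdsP H16.PHe.P cuth_W) cuth_P (nat_lit 4)) (nat_lit 0) (nat_lit 2058) = true := by decide +kernel
theorem cuth_m_5_0 : allZ (matEnt (wdsP H16.PHe.P cuth_W) cuth_P (nat_lit 5)) (nat_lit 0) (nat_lit 2058) = true := by decide +kernel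
theorem cuth_m_6_0 : allZ (matEnt (wdsP H16.PHe.P cuth_W) cuth_P (nat_lit 6)) (nat_lit 0) (nat_lit 2058) = true := by decide +kernel
theorem cuth_m_7_0 : allZ (matEnt (wdsP H16.PHe.P cuth_W) cuth_P (nat_lit 7)) (nat_lit 0) (nat_lit 2048) = true := by decide +kernel
theorem cuth_m_7_1 : allZ (matEnt (wdsP H16.PHe.P cuth_W) cuth_P (nat_lit 7)) (nat_lit 2048) (nat_lit 10) = true := by decide +kernel
theorem cuth_m_8_0 : allZ (matEnt (wdsP H16.PHe.P cuth_W) cuth_P (nat_lit 8)) (nat_lit 0) (nat_lit 2058) = true := by decide +kernel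
theorem cuth_m_9_0 : allZ (matEnt (wdsP H16.PHe.P cuth_W) cuth_P (nat_lit 9)) (nat_lit 0) (nat_lit 2058) = true := by decide +kernel
theorem cuth_m_10_0 : allZ (matEnt (wdsP H16.PHe.P cuth_W) cuth_P (nat_lit 10)) (nat_lit 0) (nat_lit 2058) = true := by decide +kernel
theorem cuth_m_11_0 : allZ (matEnt (wdsP H16.PHe.P cuth_W) cuth_P (nat_lit 11)) (nat_lit 0) (nat_lit 2058) = true := by decide +kernel
theorem cuth_m_12_0 : allZ (matEnt (wdsP H16.PHe.P cuth_W) cuth_P (nat_lit 12)) (nat_lit 0) (nat_lit 2058) = true := by decide +kernel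
theorem cuth_m_13_0 : allZ (matEnt (wdsP H16.PHe.P cuth_W) cuth_P (nat_lit 13)) (nat_lit 0) (nat_lit 2058) = true := by decide +kernel
theorem cuth_m_14_0 : allZ (matEnt (wdsP H16.PHe.P cuth_W) cuth_P (nat_lit 14)) (nat_lit 0) (nat_lit 2058) = true := by decide +kernel
theorem cuth_m_15_0 : allZ (matEnt (wdsP H16.PHe.P cuth_W) cuth_P (nat_lit 15)) (nat_lit 0) (nat_lit 2058) = true := by decide +kernel
theorem cuth_m_16_0 : allZ (matEnt (wdsP H16.PHe.P cuth_W) cuth_P (nat_lit 16)) (nat_lit 0) (nat_lit 2058) = true := by decide +kernel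
theorem cutl0_e_0 : allZ (dent cutl0 cuth_P (nat_lit 2058)) (nat_lit 0) (nat_lit 2057) = true := by decide +kernel
theorem cutl0_h : 0 < cutl0.n ∧ 0 < cutl0.K ∧ cutl0.Pt 0 < 2058 ∧ cutl0.Q (cutl0.Pt 0) = 0 := by decide +kernel
theorem cutl1_e_0 : allZ (dent cutl1 cuth_P (nat_lit 2058)) (nat_lit 0) (nat_lit 135) = true := by decide +kernel
theorem cutl1_h : 0 < cutl1.n ∧ 0 < cutl1.K ∧ cutl1.Pt 0 < 2058 ∧ cutl1.Q (cutl1.Pt 0) = 0 := by decide +kernel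
theorem cutl2_e_0 : allZ (dent cutl2 cuth_P (nat_lit 2058)) (nat_lit 0) (nat_lit 49) = true := by decide +kernel
theorem cutl2_h : 0 < cutl2.n ∧ 0 < cutl2.K ∧ cutl2.Pt 0 < 2058 ∧ cutl2.Q (cutl2.Pt 0) = 0 := by decide +kernel
theorem cutl3_e_0 : allZ (dent cutl3 cuth_P (nat_lit 2058)) (nat_lit 0) (nat_lit 35) = true := by decide +kernel
theorem cutl3_h : 0 < cutl3.n ∧ 0 < cutl3.K ∧ cutl3.Pt 0 < 2058 ∧ cutl3.Q (cutl3.Pt 0) = 0 := by decide +kernel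
theorem cutl4_e_0 : allZ (dent cutl4 cuth_P (nat_lit 2058)) (nat_lit 0) (nat_lit 7) = true := by decide +kernel
theorem cutl4_h : 0 < cutl4.n ∧ 0 < cutl4.K ∧ cutl4.Pt 0 < 2058 ∧ cutl4.Q (cutl4.Pt 0) = 0 := by decide +kernel
theorem cut_f4 : (Nat.ble cutl4.K 17 && Nat.ble (topK []) cutl4.K && fixLetters cuth_P (topK []) (cutl4.Pt 0)) = true := by decide +kernel
theorem cut_f3 : (Nat.ble cutl3.K 17 && Nat.ble (topK [cutl4]) cutl3.K && fixLetters cuth_P (topK [cutl4]) (cutl3.Pt 0)) = true := by decide +kernel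
theorem cut_f2 : (Nat.ble cutl2.K 17 && Nat.ble (topK [cutl3, cutl4]) cutl2.K && fixLetters cuth_P (topK [cutl3, cutl4]) (cutl2.Pt 0)) = true := by decide +kernel
theorem cut_f1 : (Nat.ble cutl1.K 17 && Nat.ble (topK [cutl2, cutl3, cutl4]) cutl1.K && fixLetters cuth_P (topK [cutl2, cutl3, cutl4]) (cutl1.Pt 0)) = true := by decide +kernel
theorem cut_f0 : (Nat.ble cutl0.K 17 && Nat.ble (topK [cutl1, cutl2, cutl3, cutl4]) cutl0.K && fixLetters cuth_P (topK [cutl1, cutl2, cutl3, cutl4]) (cutl0.Pt 0)) = true := by decide +kernel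
theorem cut_c : chainCard [cutl0, cutl1, cutl2, cutl3, cutl4] = 4030387200 := by decide +kernel
theorem cue_lt : H16.allL (ltAll 7) cue_W = true := by decide +kernel
theorem cue_m_a : allZ2 (matEnt (wdsP H16.PHe.P cue_W) cue_P) (nat_lit 1) (nat_lit 2058) = true := by decide +kernel
theorem cu_f4 : (Nat.ble cutl4.K 17 && Nat.blt (nat_lit 72) 2058 && fixLetters cuth_P cutl4.K (nat_lit 72) && Nat.beq (ltAll 10 [nat_lit 2]) 0 && Nat.beq (apW H15.IC.He.p2t_P [nat_lit 2] (nat_lit 72)) (cutl4.Pt 0)) = true := by decide +kernel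
theorem cu_f3 : (Nat.ble cutl3.K 17 && Nat.blt (nat_lit 72) 2058 && fixLetters cuth_P cutl3.K (nat_lit 72) && Nat.beq (ltAll 10 [nat_lit 6]) 0 && Nat.beq (apW H15.IC.He.p2t_P [nat_lit 6] (nat_lit 72)) (cutl3.Pt 0)) = true := by decide +kernel
theorem cu_f2 : (Nat.ble cutl2.K 17 && Nat.blt (nat_lit 72) 2058 && fixLetters cuth_P cutl2.K (nat_lit 72) && Nat.beq (ltAll 10 [nat_lit 5, nat_lit 6]) 0 && Nat.beq (apW H15.IC.He.p2t_P [nat_lit 5, nat_lit 6] (nat_lit 72)) (cutl2.Pt 0)) = true := by decide +kernel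
theorem cu_f1 : (Nat.ble cutl1.K 17 && Nat.blt (nat_lit 72) 2058 && fixLetters cuth_P cutl1.K (nat_lit 72) && Nat.beq (ltAll 10 [nat_lit 8]) 0 && Nat.beq (apW H15.IC.He.p2t_P [nat_lit 8] (nat_lit 72)) (cutl1.Pt 0)) = true := by decide +kernel
theorem cuc0_e_0 : allZ (dent cuc0 cue_P (nat_lit 2058)) (nat_lit 0) (nat_lit 1) = true := by decide +kernel
theorem cuc0_h : 0 < cuc0.n ∧ 0 < cuc0.K ∧ cuc0.Pt 0 < 2058 ∧ cuc0.Q (cuc0.Pt 0) = 0 := by decide +kernel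
theorem cutn0_0 : (Nat.ble cutl0.K 17 && Nat.beq (ltAll 2058 []) 0 && kChk cue_P H15.IC.He.p2t_P cutn0.Kn 10 H16.PHe.B [] && H16.allL (ltAll 10) cutn0.pre && planOK cuth_P H15.IC.He.p2t_P 10 (cutl0.Pt 0) cutn0.plan [cutl0, cutl1, cutl2, cutl3, cutl4]) = true := by decide +kernel
theorem cutn0_1_0 : allZ (cutn0.ent H16.PHe.P cuth_P H15.IC.He.p2t_P H15.IC.He.p2t_P cue_P (nat_lit 7) (nat_lit 10) H16.PHe.B cutl0 [cutl1, cutl2, cutl3, cutl4] (memO cuc0)) (nat_lit 0) (nat_lit 2058) = true := by decide +kernel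
theorem cu_f0 : (Nat.ble cuc0.K 1 && Nat.ble (topK []) cuc0.K && Nat.beq (cuc0.Pt 0) (cutl0.Pt 0) && Nat.beq (ltAll 2058 []) 0 && kChk cue_P H15.IC.He.p2t_P cuc0.K 10 H16.PHe.B []) = true := by decide +kernel
theorem cu_c : chainCard [cuc0] = 2 ∧ topK [cuc0] = 1 := by decide +kernel
theorem v_lt : H16.allL (ltAll 7) v_W = true := by decide +kernel
theorem v_m_0_0 : allZ (matEnt (wdsP H16.PHe.P v_W) v_P (nat_lit 0)) (nat_lit 0) (nat_lit 2058) = true := by decide +kernel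
theorem v_m_1_0 : allZ (matEnt (wdsP H16.PHe.P v_W) v_P (nat_lit 1)) (nat_lit 0) (nat_lit 2058) = true := by decide +kernel
theorem v_m_2_0 : allZ (matEnt (wdsP H16.PHe.P v_W) v_P (nat_lit 2)) (nat_lit 0) (nat_lit 2058) = true := by decide +kernel
theorem v_m_3_0 : allZ (matEnt (wdsP H16.PHe.P v_W) v_P (nat_lit 3)) (nat_lit 0) (nat_lit 2058) = true := by decide +kernel
theorem cvth_lt : H16.allL (ltAll 7) cvth_W = true := by decide +kernel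
theorem cvth_m_0_0 : allZ (matEnt (wdsP H16.PHe.P cvth_W) cvth_P (nat_lit 0)) (nat_lit 0) (nat_lit 2058) = true := by decide +kernel
theorem cvth_m_1_0 : allZ (matEnt (wdsP H16.PHe.P cvth_W) cvth_P (nat_lit 1)) (nat_lit 0) (nat_lit 2058) = true := by decide +kernel
theorem cvth_m_2_0 : allZ (matEnt (wdsP H16.PHe.P cvth_W) cvth_P (nat_lit 2)) (nat_lit 0) (nat_lit 1984) = true := by decide +kernel
theorem cvth_m_2_1 : allZ (matEnt (wdsP H16.PHe.P cvth_W) cvth_P (nat_lit 2)) (nat_lit 1984) (nat_lit 74) = true := by decide +kernel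
theorem cvth_m_3_0 : allZ (matEnt (wdsP H16.PHe.P cvth_W) cvth_P (nat_lit 3)) (nat_lit 0) (nat_lit 2058) = true := by decide +kernel
theorem cvth_m_4_0 : allZ (matEnt (wdsP H16.PHe.P cvth_W) cvth_P (nat_lit 4)) (nat_lit 0) (nat_lit 2058) = true := by decide +kernel
theorem cvth_m_5_0 : allZ (matEnt (wdsP H16.PHe.P cvth_W) cvth_P (nat_lit 5)) (nat_lit 0) (nat_lit 2058) = true := by decide +kernel
theorem cvth_m_6_0 : allZ (matEnt (wdsP H16.PHe.P cvth_W) cvth_P (nat_lit 6)) (nat_lit 0) (nat_lit 2058) = true := by decide +kernel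
theorem cvth_m_7_0 : allZ (matEnt (wdsP H16.PHe.P cvth_W) cvth_P (nat_lit 7)) (nat_lit 0) (nat_lit 2058) = true := by decide +kernel
theorem cvth_m_8_0 : allZ (matEnt (wdsP H16.PHe.P cvth_W) cvth_P (nat_lit 8)) (nat_lit 0) (nat_lit 2058) = true := by decide +kernel
theorem cvth_m_9_0 : allZ (matEnt (wdsP H16.PHe.P cvth_W) cvth_P (nat_lit 9)) (nat_lit 0) (nat_lit 2058) = true := by decide +kernel
theorem cvth_m_10_0 : allZ (matEnt (wdsP H16.PHe.P cvth_W) cvth_P (nat_lit 10)) (nat_lit 0) (nat_lit 2058) = true := by decide +kernel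
theorem cvth_m_11_0 : allZ (matEnt (wdsP H16.PHe.P cvth_W) cvth_P (nat_lit 11)) (nat_lit 0) (nat_lit 2058) = true := by decide +kernel
theorem cvth_m_12_0 : allZ (matEnt (wdsP H16.PHe.P cvth_W) cvth_P (nat_lit 12)) (nat_lit 0) (nat_lit 2058) = true := by decide +kernel
theorem cvth_m_13_0 : allZ (matEnt (wdsP H16.PHe.P cvth_W) cvth_P (nat_lit 13)) (nat_lit 0) (nat_lit 2058) = true := by decide +kernel
theorem cvth_m_14_0 : allZ (matEnt (wdsP H16.PHe.P cvth_W) cvth_P (nat_lit 14)) (nat_lit 0) (nat_lit 2058) = true := by decide +kernel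
theorem cvth_m_15_0 : allZ (matEnt (wdsP H16.PHe.P cvth_W) cvth_P (nat_lit 15)) (nat_lit 0) (nat_lit 2058) = true := by decide +kernel
theorem cvth_m_16_0 : allZ (matEnt (wdsP H16.PHe.P cvth_W) cvth_P (nat_lit 16)) (nat_lit 0) (nat_lit 2058) = true := by decide +kernel
theorem cvtl0_e_0 : allZ (dent cvtl0 cvth_P (nat_lit 2058)) (nat_lit 0) (nat_lit 2057) = true := by decide +kernel
theorem cvtl0_h : 0 < cvtl0.n ∧ 0 < cvtl0.K ∧ cvtl0.Pt 0 < 2058 ∧ cvtl0.Q (cvtl0.Pt 0) = 0 := by decide +kernel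
theorem cvtl1_e_0 : allZ (dent cvtl1 cvth_P (nat_lit 2058)) (nat_lit 0) (nat_lit 424) = true := by decide +kernel
theorem cvtl1_h : 0 < cvtl1.n ∧ 0 < cvtl1.K ∧ cvtl1.Pt 0 < 2058 ∧ cvtl1.Q (cvtl1.Pt 0) = 0 := by decide +kernel
theorem cvtl2_e_0 : allZ (dent cvtl2 cvth_P (nat_lit 2058)) (nat_lit 0) (nat_lit 3) = true := by decide +kernel
theorem cvtl2_h : 0 < cvtl2.n ∧ 0 < cvtl2.K ∧ cvtl2.Pt 0 < 2058 ∧ cvtl2.Q (cvtl2.Pt 0) = 0 := by decide +kernel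
theorem cvtl3_e_0 : allZ (dent cvtl3 cvth_P (nat_lit 2058)) (nat_lit 0) (nat_lit 71) = true := by decide +kernel
theorem cvtl3_h : 0 < cvtl3.n ∧ 0 < cvtl3.K ∧ cvtl3.Pt 0 < 2058 ∧ cvtl3.Q (cvtl3.Pt 0) = 0 := by decide +kernel
theorem cvtl4_e_0 : allZ (dent cvtl4 cvth_P (nat_lit 2058)) (nat_lit 0) (nat_lit 1) = true := by decide +kernel
theorem cvtl4_h : 0 < cvtl4.n ∧ 0 < cvtl4.K ∧ cvtl4.Pt 0 < 2058 ∧ cvtl4.Q (cvtl4.Pt 0) = 0 := by decide +kernel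
theorem cvtl5_e_0 : allZ (dent cvtl5 cvth_P (nat_lit 2058)) (nat_lit 0) (nat_lit 1) = true := by decide +kernel
theorem cvtl5_h : 0 < cvtl5.n ∧ 0 < cvtl5.K ∧ cvtl5.Pt 0 < 2058 ∧ cvtl5.Q (cvtl5.Pt 0) = 0 := by decide +kernel
theorem cvtl6_e_0 : allZ (dent cvtl6 cvth_P (nat_lit 2058)) (nat_lit 0) (nat_lit 1) = true := by decide +kernel
theorem cvtl6_h : 0 < cvtl6.n ∧ 0 < cvtl6.K ∧ cvtl6.Pt 0 < 2058 ∧ cvtl6.Q (cvtl6.Pt 0) = 0 := by decide +kernel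
theorem cvtl7_e_0 : allZ (dent cvtl7 cvth_P (nat_lit 2058)) (nat_lit 0) (nat_lit 1) = true := by decide +kernel
theorem cvtl7_h : 0 < cvtl7.n ∧ 0 < cvtl7.K ∧ cvtl7.Pt 0 < 2058 ∧ cvtl7.Q (cvtl7.Pt 0) = 0 := by decide +kernel
theorem cvt_f7 : (Nat.ble cvtl7.K 17 && Nat.ble (topK []) cvtl7.K && fixLetters cvth_P (topK []) (cvtl7.Pt 0)) = true := by decide +kernel
theorem cvt_f6 : (Nat.ble cvtl6.K 17 && Nat.ble (topK [cvtl7]) cvtl6.K && fixLetters cvth_P (topK [cvtl7]) (cvtl6.Pt 0)) = true := by decide +kernel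
theorem cvt_f5 : (Nat.ble cvtl5.K 17 && Nat.ble (topK [cvtl6, cvtl7]) cvtl5.K && fixLetters cvth_P (topK [cvtl6, cvtl7]) (cvtl5.Pt 0)) = true := by decide +kernel
theorem cvt_f4 : (Nat.ble cvtl4.K 17 && Nat.ble (topK [cvtl5, cvtl6, cvtl7]) cvtl4.K && fixLetters cvth_P (topK [cvtl5, cvtl6, cvtl7]) (cvtl4.Pt 0)) = true := by decide +kernel
theorem cvt_f3 : (Nat.ble cvtl3.K 17 && Nat.ble (topK [cvtl4, cvtl5, cvtl6, cvtl7]) cvtl3.K && fixLetters cvth_P (topK [cvtl4, cvtl5, cvtl6, cvtl7]) (cvtl3.Pt 0)) = true := by decide +kernel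
theorem cvt_f2 : (Nat.ble cvtl2.K 17 && Nat.ble (topK [cvtl3, cvtl4, cvtl5, cvtl6, cvtl7]) cvtl2.K && fixLetters cvth_P (topK [cvtl3, cvtl4, cvtl5, cvtl6, cvtl7]) (cvtl2.Pt 0)) = true := by decide +kernel
theorem cvt_f1 : (Nat.ble cvtl1.K 17 && Nat.ble (topK [cvtl2, cvtl3, cvtl4, cvtl5, cvtl6, cvtl7]) cvtl1.K && fixLetters cvth_P (topK [cvtl2, cvtl3, cvtl4, cvtl5, cvtl6, cvtl7]) (cvtl1.Pt 0)) = true := by decide +kernel
theorem cvt_f0 : (Nat.ble cvtl0.K 17 && Nat.ble (topK [cvtl1, cvtl2, cvtl3, cvtl4, cvtl5, cvtl6, cvtl7]) cvtl0.K && fixLetters cvth_P (topK [cvtl1, cvtl2, cvtl3, cvtl4, cvtl5, cvtl6, cvtl7]) (cvtl0.Pt 0)) = true := by decide +kernel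
theorem cvt_c : chainCard [cvtl0, cvtl1, cvtl2, cvtl3, cvtl4, cvtl5, cvtl6, cvtl7] = 4030387200 := by decide +kernel
theorem cve_lt : H16.allL (ltAll 7) cve_W = true := by decide +kernel
theorem cve_m_0_0 : allZ (matEnt (wdsP H16.PHe.P cve_W) cve_P (nat_lit 0)) (nat_lit 0) (nat_lit 2058) = true := by decide +kernel
theorem cve_m_1_0 : allZ (matEnt (wdsP H16.PHe.P cve_W) cve_P (nat_lit 1)) (nat_lit 0) (nat_lit 2058) = true := by decide +kernel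
theorem cve_m_2_0 : allZ (matEnt (wdsP H16.PHe.P cve_W) cve_P (nat_lit 2)) (nat_lit 0) (nat_lit 2058) = true := by decide +kernel
theorem cve_m_3_0 : allZ (matEnt (wdsP H16.PHe.P cve_W) cve_P (nat_lit 3)) (nat_lit 0) (nat_lit 2048) = true := by decide +kernel
theorem cve_m_3_1 : allZ (matEnt (wdsP H16.PHe.P cve_W) cve_P (nat_lit 3)) (nat_lit 2048) (nat_lit 10) = true := by decide +kernel
theorem cv_f7 : (Nat.ble cvtl7.K 17 && Nat.blt (nat_lit 154) 2058 && fixLetters cvth_P cvtl7.K (nat_lit 154) && Nat.beq (ltAll 4 [nat_lit 1]) 0 && Nat.beq (apW v_P [nat_lit 1] (nat_lit 154)) (cvtl7.Pt 0)) = true := by decide +kernel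
theorem cv_f6 : (Nat.ble cvtl6.K 17 && Nat.blt (nat_lit 154) 2058 && fixLetters cvth_P cvtl6.K (nat_lit 154) && Nat.beq (ltAll 4 [nat_lit 2]) 0 && Nat.beq (apW v_P [nat_lit 2] (nat_lit 154)) (cvtl6.Pt 0)) = true := by decide +kernel
theorem cv_f5 : (Nat.ble cvtl5.K 17 && Nat.blt (nat_lit 154) 2058 && fixLetters cvth_P cvtl5.K (nat_lit 154) && Nat.beq (ltAll 4 [nat_lit 0]) 0 && Nat.beq (apW v_P [nat_lit 0] (nat_lit 154)) (cvtl5.Pt 0)) = true := by decide +kernel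
theorem cvc4_e_0 : allZ (dent cvc4 cve_P (nat_lit 2058)) (nat_lit 0) (nat_lit 1) = true := by decide +kernel
theorem cvc4_h : 0 < cvc4.n ∧ 0 < cvc4.K ∧ cvc4.Pt 0 < 2058 ∧ cvc4.Q (cvc4.Pt 0) = 0 := by decide +kernel
theorem cvtn0_0 : (Nat.ble cvtl4.K 17 && Nat.beq (ltAll 2058 [cvtl3.Pt 0, cvtl2.Pt 0, cvtl1.Pt 0, cvtl0.Pt 0]) 0 && kChk cve_P v_P cvtn0.Kn 4 H16.PHe.B [cvtl3.Pt 0, cvtl2.Pt 0, cvtl1.Pt 0, cvtl0.Pt 0] && H16.allL (ltAll 4) cvtn0.pre && planOK cvth_P v_P 4 (cvtl4.Pt 0) cvtn0.plan [cvtl4, cvtl5, cvtl6, cvtl7]) = true := by decide +kernel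
theorem cvtn0_1_0 : allZ (cvtn0.ent H16.PHe.P cvth_P v_P v_P cve_P (nat_lit 7) (nat_lit 4) H16.PHe.B cvtl4 [cvtl5, cvtl6, cvtl7] (memO cvc4)) (nat_lit 0) (nat_lit 2) = true := by decide +kernel
theorem cv_f4 : (Nat.ble cvc4.K 4 && Nat.ble (topK []) cvc4.K && Nat.beq (cvc4.Pt 0) (cvtl4.Pt 0) && Nat.beq (ltAll 2058 [cvtl3.Pt 0, cvtl2.Pt 0, cvtl1.Pt 0, cvtl0.Pt 0]) 0 && kChk cve_P v_P cvc4.K 4 H16.PHe.B [cvtl3.Pt 0, cvtl2.Pt 0, cvtl1.Pt 0, cvtl0.Pt 0]) = true := by decide +kernel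
theorem cv_f3 : (Nat.ble cvtl3.K 17 && Nat.blt (nat_lit 11) 2058 && fixLetters cvth_P cvtl3.K (nat_lit 11) && Nat.beq (ltAll 4 [nat_lit 1]) 0 && Nat.beq (apW v_P [nat_lit 1] (nat_lit 11)) (cvtl3.Pt 0)) = true := by decide +kernel
theorem cv_f2 : (Nat.ble cvtl2.K 17 && Nat.blt (nat_lit 11) 2058 && fixLetters cvth_P cvtl2.K (nat_lit 11) && Nat.beq (ltAll 4 [nat_lit 1, nat_lit 2]) 0 && Nat.beq (apW v_P [nat_lit 1, nat_lit 2] (nat_lit 11)) (cvtl2.Pt 0)) = true := by decide +kernel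
theorem cv_f1 : (Nat.ble cvtl1.K 17 && Nat.blt (nat_lit 11) 2058 && fixLetters cvth_P cvtl1.K (nat_lit 11) && Nat.beq (ltAll 4 [nat_lit 0]) 0 && Nat.beq (apW v_P [nat_lit 0] (nat_lit 11)) (cvtl1.Pt 0)) = true := by decide +kernel
theorem cvc0_e_0 : allZ (dent cvc0 cve_P (nat_lit 2058)) (nat_lit 0) (nat_lit 7) = true := by decide +kernel
theorem cvc0_h : 0 < cvc0.n ∧ 0 < cvc0.K ∧ cvc0.Pt 0 < 2058 ∧ cvc0.Q (cvc0.Pt 0) = 0 := by decide +kernel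
theorem cvtn1_0 : (Nat.ble cvtl0.K 17 && Nat.beq (ltAll 2058 []) 0 && kChk cve_P v_P cvtn1.Kn 4 H16.PHe.B [] && H16.allL (ltAll 4) cvtn1.pre && planOK cvth_P v_P 4 (cvtl0.Pt 0) cvtn1.plan [cvtl0, cvtl1, cvtl2, cvtl3, cvtl4, cvtl5, cvtl6, cvtl7]) = true := by decide +kernel
theorem cvtn1_1_0 : allZ (cvtn1.ent H16.PHe.P cvth_P v_P v_P cve_P (nat_lit 7) (nat_lit 4) H16.PHe.B cvtl0 [cvtl1, cvtl2, cvtl3, cvtl4, cvtl5, cvtl6, cvtl7] (memO cvc0)) (nat_lit 0) (nat_lit 2058) = true := by decide +kernel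
theorem cv_f0 : (Nat.ble cvc0.K 4 && Nat.ble (topK [cvc4]) cvc0.K && Nat.beq (cvc0.Pt 0) (cvtl0.Pt 0) && Nat.beq (ltAll 2058 []) 0 && kChk cve_P v_P cvc0.K 4 H16.PHe.B []) = true := by decide +kernel
theorem cv_c : chainCard [cvc0, cvc4] = 16 ∧ topK [cvc0, cvc4] = 4 := by decide +kernel
theorem nv_k_a : allZ2 (nrmEnt v_P H15.IC.He.c0ace_P (nat_lit 4) H16.PHe.B nvW) (nat_lit 10) (nat_lit 4) = true := by decide +kernel
theorem vz_k_0 : allZ (cmEnt v_P H15.IC.He.c0ax_P (nat_lit 4) H16.PHe.B (nat_lit 0)) (nat_lit 0) (nat_lit 4) = true := by decide +kernel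
theorem vU_k : allZ (fun a => Nat.add (ltAll 10 (nth [] [[nat_lit 0, nat_lit 1, nat_lit 4, nat_lit 5],
  [nat_lit 0, nat_lit 2, nat_lit 5, nat_lit 6, nat_lit 8],
  [nat_lit 0, nat_lit 2, nat_lit 4, nat_lit 5],
  [nat_lit 1, nat_lit 4, nat_lit 5]] a)) (sumL (fun β => Nat.xor (v_P a β) (apW H15.IC.He.p2t_P (nth [] [[nat_lit 0, nat_lit 1, nat_lit 4, nat_lit 5],
  [nat_lit 0, nat_lit 2, nat_lit 5, nat_lit 6, nat_lit 8],
  [nat_lit 0, nat_lit 2, nat_lit 4, nat_lit 5],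
  [nat_lit 1, nat_lit 4, nat_lit 5]] a) β)) H16.PHe.B)) 0 4 = true := by decide +kernel
theorem dk : ∀ b < 10, ∀ a < 10, 6 ≤ b → b < a → ltAll 6 (nth [] (nth [] H15.IC.He.p2C b) a) = 0 := by decide +kernel
theorem d_lt : H16.allL (ltAll 7) d_W = true := by decide +kernel
theorem d_m_0_0 : allZ (matEnt (wdsP H16.PHe.P d_W) d_P (nat_lit 0)) (nat_lit 0) (nat_lit 1600) = true := by decide +kernel
theorem d_m_0_1 : allZ (matEnt (wdsP H16.PHe.P d_W) d_P (nat_lit 0)) (nat_lit 1600) (nat_lit 458) = true := by decide +kernel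
theorem d_m_1_0 : allZ (matEnt (wdsP H16.PHe.P d_W) d_P (nat_lit 1)) (nat_lit 0) (nat_lit 2058) = true := by decide +kernel
theorem d_m_2_0 : allZ (matEnt (wdsP H16.PHe.P d_W) d_P (nat_lit 2)) (nat_lit 0) (nat_lit 2058) = true := by decide +kernel
theorem dr0_k : eqL H15.IC.He.p2t_P 10 H16.PHe.B [nat_lit 6, nat_lit 9] [nat_lit 9, nat_lit 6, nat_lit 4] = 0 := by decide +kernel
theorem de0_k : Nat.add (ltAll 10 [nat_lit 4]) (sumL (fun β => Nat.xor (d_P 0 β) (apW H15.IC.He.p2t_P [nat_lit 4] β)) H16.PHe.B) = 0 := by decide +kernel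
theorem dr1_k : eqL H15.IC.He.p2t_P 10 H16.PHe.B [nat_lit 4, nat_lit 8] [nat_lit 8, nat_lit 4, nat_lit 2] = 0 := by decide +kernel
theorem de1_k : Nat.add (ltAll 10 [nat_lit 2]) (sumL (fun β => Nat.xor (d_P 1 β) (apW H15.IC.He.p2t_P [nat_lit 2] β)) H16.PHe.B) = 0 := by decide +kernel
theorem dr2_k : eqL H15.IC.He.p2t_P 10 H16.PHe.B [nat_lit 8, nat_lit 9] [nat_lit 9, nat_lit 8, nat_lit 5] = 0 := by decide +kernel
theorem de2_k : Nat.add (ltAll 10 [nat_lit 5]) (sumL (fun β => Nat.xor (d_P 2 β) (apW H15.IC.He.p2t_P [nat_lit 5] β)) H16.PHe.B) = 0 := by decide +kernel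
theorem cdth_lt : H16.allL (ltAll 7) cdth_W = true := by decide +kernel

end H15.UB.He
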